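import Cfsg.Agent.H4.KM2

/-!
Klinger-Mason: an elementary abelian subgroup of order 8 in `C_E(B₀)`.
-/

set_option autoImplicit false
set_option linter.unusedSectionVars false

namespace H4

open Subgroup Cfsg H5
open scoped Pointwise commutatorElement

variable {G : Type*} [Group G] [Finite G]

theorem exists_eight {F : Subgroup G} {x y z : G} (hz : orderOf z = 2) (hF : F ≤ centralizer {z})
    (hzF : z ∈ F) (hx : x ∈ F) (hy : y ∈ F) (hxx : x * x = 1) (hyy : y * y = 1)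
    (hxy : x * y = y * x) (h1 : x ∉ zpowers z) (h2 : y ∉ zpowers z) (h3 : x * y ∉ zpowers z) :
    ∃ T ≤ F, IsElementaryAbelian 2 T ∧ Nat.card T = 2 ^ 3 ∧ z ∈ T := by
  have hzz := mul_self_eq_one_of_orderOf hz
  have hxz := mem_centralizer_singleton_iff.mp (hF hx)
  have hyz := mem_centralizer_singleton_iff.mp (hF hy)
  have c1 : zpowers x ≤ centralizer (zpowers z : Set G) := by
    rw [H4.centralizer_zpowers]; exact zpowers_le.mpr (hF hx)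
  have c2 : zpowers y ≤ centralizer ((zpowers z ⊔ zpowers x : Subgroup G) : Set G) := by
    rw [centralizer_sup, H4.centralizer_zpowers, H4.centralizer_zpowers]
    exact zpowers_le.mpr ⟨hF hy, mem_centralizer_singleton_iff.mpr hxy.symm⟩
  refine ⟨zpowers z ⊔ zpowers x ⊔ zpowers y, sup_le (sup_le (zpowers_le.mpr hzF) (zpowers_le.mpr hx))
    (zpowers_le.mpr hy), elem_sup (elem_sup (elem_zpowers hz) (elem_zpowers_of_mul_self hxx)
      (le_centralizer_iff.mp c1)) (elem_zpowers_of_mul_self hyy) (le_centralizer_iff.mp c2), ?_,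
    mem_sup_left (mem_sup_left (mem_zpowers z))⟩
  rw [H7.card_sup_zpowers (p := 2) (centralizer_le_normalizer _ (c2 (mem_zpowers y))) (fun hm => ?_)
    (by rw [pow_two, hyy]; exact one_mem _), H7.card_sup_zpowers (p := 2)
    (centralizer_le_normalizer _ (c1 (mem_zpowers x))) h1 (by rw [pow_two, hxx]; exact one_mem _),
    Nat.card_zpowers, hz]
  · rfl
  obtain ⟨a, ha, b, hb, rfl⟩ := (mem_sup_of_le_normalizer_left
    (H4.le_normalizer_of_le_centralizer c1)).mp hm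
  rcases (mem_zpowers_invol hxx).mp hb with rfl | rfl
  · exact h2 (by rwa [mul_one])
  · exact h3 (by rwa [hxy, mul_assoc, hxx, mul_one])

section eight

variable {F E₁ E₂ : Subgroup G} {z : G}

theorem eight_caseB (hz : orderOf z = 2) (hF : F ≤ centralizer {z}) (hz₁ : z ∈ E₁) (hz₂ : z ∈ E₂)
    (h₁ : E₁ ≤ F) (h₂ : E₂ ≤ F) (hc : ∀ x ∈ F, ∀ y ∈ F, ⁅x, y⁆ ∈ zpowers z)
    (h12 : E₁ ≤ centralizer (E₂ : Set G)) (hi : E₁ ⊓ E₂ ≤ zpowers z)
    (n₁ : ¬ IsMulCommutative E₁) (n₂ : ¬ IsMulCommutative E₂)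
    (s₁ : ∀ x ∈ E₁, x ∉ zpowers z → x * x = z) (s₂ : ∀ x ∈ E₂, x ∉ zpowers z → x * x = z) :
    ∃ T ≤ F, IsElementaryAbelian 2 T ∧ Nat.card T = 2 ^ 3 ∧ z ∈ T := by
  have hzz := mul_self_eq_one_of_orderOf hz
  have hzc : ∀ a ∈ F, ∀ w ∈ zpowers z, a * w = w * a := fun a ha w hw =>
    zpowers_le_centralizer hF hw a ha
  have key : ∀ E ≤ F, ¬ IsMulCommutative E → ∃ a ∈ E, ∃ b ∈ E, a * b = z * (b * a) ∧
      a ∉ zpowers z ∧ b ∉ zpowers z ∧ a * b ∉ zpowers z := fun E hE n => by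
    have : ∃ a ∈ E, ∃ b ∈ E, a * b ≠ b * a := by
      by_contra! h
      exact n (isMulCommutative_of_forall h)
    obtain ⟨a, ha, b, hb, hab⟩ := this
    refine ⟨a, ha, b, hb, (comm_or_of_mem hzz (hc a (hE ha) b (hE hb))).resolve_left hab,
      fun h => hab (hzc b (hE hb) a h).symm, fun h => hab (hzc a (hE ha) b h), fun h => hab ?_⟩
    have := hzc a (hE ha) _ h
    rwa [mul_assoc, mul_right_inj] at this
  obtain ⟨a, ha, b, hb, hab, ha', hb', hab'⟩ := key E₁ h₁ n₁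
  obtain ⟨c, hc', d, hd, hcd, -, -, -⟩ := key E₂ h₂ n₂
  have hzE : zpowers z ≤ E₂ := zpowers_le.mpr hz₂
  have hn : ∀ a ∈ E₁, ∀ c ∈ E₂, a ∉ zpowers z → a * c ∉ zpowers z := fun a ha c hc h1 h2 =>
    h1 (hi ⟨ha, by simpa using mul_mem (hzE h2) (inv_mem hc)⟩)
  have hn' : ∀ a ∈ E₁, ∀ c ∈ E₂, a ∉ zpowers z → c ∉ zpowers z → a * c * (a * c) = 1 :=
    fun a ha c hc h1 h2 => by
      calc a * c * (a * c) = a * (c * a) * c := by group
        _ = a * a * (c * c) := by rw [h12 ha c hc]; group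
        _ = 1 := by rw [s₁ a ha h1, s₂ c hc h2, hzz]
  obtain ⟨c, hc', d, hd, hcd, hc1, hd1, -⟩ := key E₂ h₂ n₂
  have e1 : a * c * (b * d) = a * b * (c * d) := by
    calc a * c * (b * d) = a * (c * b) * d := by group
      _ = _ := by rw [h12 hb c hc']; group
  refine exists_eight hz hF (h₁ hz₁) (mul_mem (h₁ ha) (h₂ hc')) (mul_mem (h₁ hb) (h₂ hd))
    (hn' a ha c hc' ha' hc1) (hn' b hb d hd hb' hd1) ?_ (hn a ha c hc' ha') (hn b hb d hd hb')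
    (e1 ▸ hn _ (mul_mem ha hb) _ (mul_mem hc' hd) hab')
  calc a * c * (b * d) = z * (b * a * z) * (d * c) := by rw [e1, hab, hcd]; group
    _ = b * (a * d) * c := by
      rw [hzc _ (mul_mem (h₁ hb) (h₁ ha)) z (mem_zpowers z), ← mul_assoc z, hzz]; group
    _ = _ := by rw [← h12 ha d hd]; group

theorem eight_caseA (hz : orderOf z = 2) (hF : F ≤ centralizer {z}) (hz₂ : z ∈ E₂)
    (h₁ : E₁ ≤ F) (h₂ : E₂ ≤ F) (hc : ∀ x ∈ F, ∀ y ∈ F, ⁅x, y⁆ ∈ zpowers z)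
    (hs : ∀ x ∈ F, x * x ∈ zpowers z)
    (h12 : E₁ ≤ centralizer (E₂ : Set G)) (hi : E₁ ⊓ E₂ ≤ zpowers z)
    (n₁ : ¬ IsMulCommutative E₁) {a : G} (ha : a ∈ normalizer (E₂ : Set G))
    (haz : a * z = z * a) (f1 : ∀ x ∈ E₂, ⁅a, x⁆ ∈ zpowers z → x ∈ zpowers z)
    (f2 : ∀ x ∈ E₂, ⁅a * a, x⁆ ∈ zpowers z → x ∈ zpowers z)
    {x : G} (hx : x ∈ E₂) (hxz : x ∉ zpowers z) (hxx : x * x = 1) :
    ∃ T ≤ F, IsElementaryAbelian 2 T ∧ Nat.card T = 2 ^ 3 ∧ z ∈ T := by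
  have hzz := mul_self_eq_one_of_orderOf hz
  have hz1 := ne_one_of_orderOf hz
  have hzc : ∀ a ∈ F, a * z = z * a := fun a ha => mem_centralizer_singleton_iff.mp (hF ha)
  have hxi : x⁻¹ = x := inv_eq_of_mul_eq_one_right hxx
  have key : ∀ b ∈ normalizer (E₂ : Set G), b * z = z * b →
      (∀ x ∈ E₂, ⁅b, x⁆ ∈ zpowers z → x ∈ zpowers z) →
      x * (b * x * b⁻¹) = b * x * b⁻¹ * x →
      ∃ T ≤ F, IsElementaryAbelian 2 T ∧ Nat.card T = 2 ^ 3 ∧ z ∈ T := fun b hb hbz f e => by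
    refine exists_eight hz hF (h₂ hz₂) (h₂ hx) (h₂ (conj_mem_of_mem_normalizer hb hx)) hxx
      (by rw [show b * x * b⁻¹ * (b * x * b⁻¹) = b * (x * x) * b⁻¹ by group, hxx]; group) e hxz
      (fun h => hxz ?_) fun h => hxz (f x hx (by rwa [commutatorElement_def, hxi, ← e]))
    have := inv_conj_mem_of_mem_normalizer (le_normalizer_zpowers (H := zpowers b)
      (zpowers_le.mpr (mem_centralizer_singleton_iff.mpr hbz)) (mem_zpowers b)) h
    rwa [show b⁻¹ * (b * x * b⁻¹) * b = x by group] at this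
  have hx₁ := conj_mem_of_mem_normalizer ha hx
  have hx₂ := conj_mem_of_mem_normalizer (mul_mem ha ha) hx
  rcases comm_or_of_mem hzz (hc x (h₂ hx) _ (h₂ hx₁)) with e1 | e1
  · exact key a ha haz f1 e1
  rcases comm_or_of_mem hzz (hc x (h₂ hx) _ (h₂ hx₂)) with e2 | e2
  · exact key (a * a) (mul_mem ha ha) (by rw [mul_assoc, haz, ← mul_assoc, haz, mul_assoc]) f2 e2
  have e3 : a * x * a⁻¹ * (a * a * x * (a * a)⁻¹) = z * (a * a * x * (a * a)⁻¹ * (a * x * a⁻¹)) := by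
    calc _ = a * (x * (a * x * a⁻¹)) * a⁻¹ := by group
      _ = a * z * (a * x * a⁻¹ * x) * a⁻¹ := by rw [e1]; group
      _ = _ := by rw [haz]; group
  have q1 : a * x * a⁻¹ * (a * x * a⁻¹) = 1 := by
    rw [show a * x * a⁻¹ * (a * x * a⁻¹) = a * (x * x) * a⁻¹ by group, hxx]; group
  have q2 : a * a * x * (a * a)⁻¹ * (a * a * x * (a * a)⁻¹) = 1 := by
    rw [show a * a * x * (a * a)⁻¹ * (a * a * x * (a * a)⁻¹) = a * a * (x * x) * (a * a)⁻¹ by group,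
      hxx]; group
  generalize a * x * a⁻¹ = u at hx₁ e1 e3 q1
  generalize a * a * x * (a * a)⁻¹ = v at hx₂ e2 e3 q2
  have hcc : u * v * (u * v) = z := by
    nth_rewrite 1 [e3]
    calc z * (v * u) * (u * v) = z * (v * (u * u) * v) := by group
      _ = z := by rw [q1, mul_one, q2, mul_one]
  have hxc : x * (u * v) = u * v * x := by
    calc x * (u * v) = z * u * (x * v) := by rw [← mul_assoc, e1]; group
      _ = z * (u * z) * (v * x) := by rw [e2]; group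
      _ = _ := by rw [hzc u (h₂ hx₁), ← mul_assoc z, hzz]; group
  obtain ⟨w, hw, hww⟩ : ∃ w ∈ E₁, w * w = z := by
    by_contra! h
    refine n₁ (isMulCommutative_of_forall (H9.comm_of_sq_eq_one fun t ht => ?_))
    rw [pow_two]
    exact ((mem_zpowers_invol hzz).mp (hs t (h₁ ht))).resolve_right (h t ht)
  have hwz : w ∉ zpowers z := fun h => by
    rcases (mem_zpowers_invol hzz).mp h with rfl | rfl
    · exact hz1 (by rw [← hww, one_mul])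
    · exact hz1 (hww.symm.trans hzz)
  have hn : ∀ c ∈ E₂, c * w ∉ zpowers z := fun c hc h2 =>
    hwz (hi ⟨hw, by simpa using mul_mem (inv_mem hc) (zpowers_le.mpr hz₂ h2)⟩)
  have huv := mul_mem hx₁ hx₂
  refine exists_eight (y := u * v * w) hz hF (h₂ hz₂) (h₂ hx) (mul_mem (h₂ huv) (h₁ hw)) hxx ?_ ?_
    hxz (hn _ huv) (by rw [← mul_assoc]; exact hn _ (mul_mem hx huv))
  · calc u * v * w * (u * v * w) = u * v * (w * (u * v)) * w := by group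
      _ = u * v * (u * v) * (w * w) := by rw [← h12 hw _ huv]; group
      _ = 1 := by rw [hcc, hww, hzz]
  · rw [← mul_assoc, hxc, mul_assoc, h12 hw x hx]; group

end eight

variable {p : ℕ} [hp : Fact p.Prime] {A Q : Subgroup G} {z : G}

theorem sup_zpowers_eq_of_relIndex (hA : IsElementaryAbelian p A) {B : Subgroup G} (hB : B ≤ A)
    (hi : B.relIndex A = p) {b : G} (hb : b ∈ A) (hbB : b ∉ B) : B ⊔ zpowers b = A := by
  refine eq_of_le_of_card_ge (sup_le hB (zpowers_le.mpr hb)) ?_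
  rw [H7.card_sup_zpowers (le_normalizer_of_comm hA.1 hB hb) hbB (hA.2 b hb ▸ one_mem _),
    ← H5.card_mul_relIndex hB, hi]

theorem ES.conj_mem (h : ES A Q z) (hAz : A ≤ centralizer {z}) {B : Subgroup G} (hB : B ≤ A)
    {e q : G} (he : e ∈ ⁅Q, A⁆) (hq : q ∈ Q) (hqB : q ∈ centralizer (B : Set G)) :
    e⁻¹ * q * e ∈ centralizer (B : Set G) := by
  rw [show e⁻¹ * q * e = ⁅e⁻¹, q⁆ * q by rw [commutatorElement_def]; group]
  exact mul_mem (zpowers_le_centralizer (hB.trans hAz) (h.comm _ (inv_mem he) q hq)) hqB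

theorem ES.exists_eight (h : ES A Q z) (hp2 : p ≠ 2) (hA : IsElementaryAbelian p A)
    (hQ : IsPGroup 2 Q) (hn : A ≤ normalizer (Q : Set G)) (hz : orderOf z = 2)
    (hQz : Q ≤ centralizer {z}) (hAz : A ≤ centralizer {z})
    (hf : A ⊓ centralizer (Q : Set G) = ⊥) {k : ℕ} (hk : p ^ (k + 2) ≤ Nat.card A) :
    ∃ B ≤ A, p ^ k ≤ Nat.card B ∧ ∃ T ≤ ⁅Q, A⁆ ⊓ centralizer (B : Set G),
      IsElementaryAbelian 2 T ∧ Nat.card T = 2 ^ 3 ∧ z ∈ T := by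
  have hzz := mul_self_eq_one_of_orderOf hz
  have hA0 : A ≠ ⊥ := ne_bot_of_card_ge (k := k + 1) hk
  have hAp := isPGroup_of_elem hA
  have hodd := not_two_dvd_of_pGroup hp2 hAp
  have hco : ∀ B ≤ A, ∀ U ≤ Q, (Nat.card B).Coprime (Nat.card U) := fun B hB U hU =>
    (coprime_card_of_isPGroup (hQ.to_le hU) (not_dvd_of_le hB hodd)).symm
  have hsol : ∀ B : Subgroup G, ∀ U ≤ Q, Group.IsSolvable B ∨ Group.IsSolvable U := fun B U hU =>
    Or.inr (isSolvable_of_isPGroup (hQ.to_le hU))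
  have hEQ : ⁅Q, A⁆ ≤ Q := commutator_le_left_of_le_normalizer hn
  have hAE : A ≤ normalizer ((⁅Q, A⁆ : Subgroup G) : Set G) := normalizer_commutator_ge_right Q A
  have hQs := commutator_sup_centralizer hn (hco A le_rfl Q le_rfl) (hsol A Q le_rfl)
  have hpE := not_dvd_of_twoGroup hp2 (hQ.to_le hEQ)
  have hfa : ∀ B ≤ A, ⁅Q, A⁆ ≤ centralizer (B : Set G) → B = ⊥ := fun B hB hc =>
    le_bot_iff.mp ((le_inf hB (le_centralizer_iff.mp (hQs.ge.trans (sup_le hc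
      (inf_le_right.trans (centralizer_anti hB)))))).trans hf.le)
  obtain ⟨B₁, hB₁, i₁, m₁⟩ : ∃ B ≤ A, B.relIndex A = p ∧
      ¬ ⁅Q, A⁆ ⊓ centralizer (B : Set G) ≤ zpowers z := by
    by_contra! hc
    exact hA0 (hfa A le_rfl ((le_of_hyperplanes hA hA0 hAE hpE hc).trans (zpowers_le_centralizer hAz)))
  have hB₁0 : B₁ ≠ ⊥ := ne_bot_of_card_ge (k := k) (card_ge_of_relIndex hB₁ i₁ hk)
  obtain ⟨B₂, hB₂, i₂, m₂⟩ : ∃ B ≤ A, B.relIndex A = p ∧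
      ¬ ⁅Q, A⁆ ⊓ centralizer (B : Set G) ≤ centralizer (B₁ : Set G) := by
    by_contra! hc
    exact hB₁0 (hfa B₁ hB₁ (le_of_hyperplanes hA hA0 hAE hpE hc))
  have m₂' : ¬ ⁅Q, A⁆ ⊓ centralizer (B₂ : Set G) ≤ zpowers z := fun e =>
    m₂ (e.trans (zpowers_le_centralizer (hB₁.trans hAz)))
  have hn12 : ¬ B₁ ≤ B₂ := fun e => m₂ (inf_le_right.trans (centralizer_anti e))
  have hn21 : ¬ B₂ ≤ B₁ := fun e => hn12 (eq_of_le_of_card_ge e (by
    have h1 := H5.card_mul_relIndex hB₁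
    have h2 := H5.card_mul_relIndex hB₂
    rw [i₁] at h1
    rw [i₂, ← h1] at h2
    exact (Nat.eq_of_mul_eq_mul_right hp.out.pos h2).ge)).ge
  refine ⟨B₁ ⊓ B₂, inf_le_left.trans hB₁, card_inf_ge_of_hyperplanes hk hB₁ i₁ i₂, ?_⟩
  have hfix : ∀ B ≤ A, B.relIndex A = p → ∀ b ∈ A, b ∉ B →
      ⁅Q, A⁆ ⊓ centralizer (B : Set G) ⊓ centralizer (zpowers b : Set G) ≤ zpowers z :=
    fun B hB i b hb hbB => by
      rw [inf_assoc, ← centralizer_sup, sup_zpowers_eq_of_relIndex hA hB i hb hbB]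
      exact h.fix
  have hnE : ∀ B ≤ A, A ≤ normalizer ((⁅Q, A⁆ ⊓ centralizer (B : Set G) : Subgroup G) : Set G) :=
    fun B hB => H4.le_normalizer_inf hAE (H4.le_normalizer_centralizer (le_normalizer_of_comm hA.1 hB))
  have hab : ∀ B ≤ A, ¬ ⁅Q, A⁆ ⊓ centralizer (B : Set G) ≤ zpowers z →
      ¬ IsMulCommutative (⁅Q, A⁆ ⊓ centralizer (B : Set G) : Subgroup G) := fun B hB m e =>
    m ((le_inf inf_le_left (h.ab _ (inf_le_left.trans hEQ) e (hnE B hB))).trans h.fix)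
  have hzE : z ∈ ⁅Q, A⁆ := by
    by_contra hc
    refine hab B₁ hB₁ m₁ (isMulCommutative_of_forall fun a ha b hb => ?_)
    rcases (mem_zpowers_invol hzz).mp (h.comm a ha.1 b (hEQ hb.1)) with e | e
    · exact commutatorElement_eq_one_iff_mul_comm.mp e
    · exact (hc (e ▸ commutator_le_left_of_le_normalizer Subgroup.le_normalizer
        (commutator_mem_commutator ha.1 hb.1))).elim
  have hzB : ∀ B ≤ A, z ∈ ⁅Q, A⁆ ⊓ centralizer (B : Set G) := fun B hB =>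
    ⟨hzE, zpowers_le_centralizer (hB.trans hAz) (mem_zpowers z)⟩
  obtain ⟨b₁, hb₁, hb₁'⟩ := SetLike.not_le_iff_exists.mp hn12
  obtain ⟨b₂, hb₂, hb₂'⟩ := SetLike.not_le_iff_exists.mp hn21
  have h12 : ⁅Q, A⁆ ⊓ centralizer (B₁ : Set G) ≤
      centralizer ((⁅Q, A⁆ ⊓ centralizer (B₂ : Set G) : Subgroup G) : Set G) := fun s hs => by
    have hz₁ : zpowers b₁ ≤ A := zpowers_le.mpr (hB₁ hb₁)
    have hs' : s ∈ centralizer (zpowers b₁ : Set G) := centralizer_anti (zpowers_le.mpr hb₁) hs.2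
    have := (commutator_sup_centralizer (hz₁.trans (hnE B₂ hB₂))
      (hco _ hz₁ _ (inf_le_left.trans hEQ)) (hsol _ _ (inf_le_left.trans hEQ))).ge.trans
      (sup_le (commutator_le_centralizer_of_conj hs' fun r hr =>
        h.conj_mem hAz hz₁ hr.1 (hEQ hs.1) hs') ((hfix B₂ hB₂ i₂ b₁ (hB₁ hb₁) hb₁').trans
          (zpowers_le.mpr (mem_centralizer_singleton_iff.mpr
            (mem_centralizer_singleton_iff.mp (hQz (hEQ hs.1))).symm))))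
    exact fun y hy => mem_centralizer_singleton_iff.mp (this hy)
  have hi : ⁅Q, A⁆ ⊓ centralizer (B₁ : Set G) ⊓ (⁅Q, A⁆ ⊓ centralizer (B₂ : Set G)) ≤ zpowers z :=
    (le_inf inf_le_right (inf_le_left.trans (inf_le_right.trans
      (centralizer_anti (zpowers_le.mpr hb₁))))).trans (hfix B₂ hB₂ i₂ b₁ (hB₁ hb₁) hb₁')
  have hF : ⁅Q, A⁆ ⊓ centralizer ((B₁ ⊓ B₂ : Subgroup G) : Set G) ≤ centralizer {z} :=
    inf_le_left.trans (hEQ.trans hQz)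
  have l₁ : ⁅Q, A⁆ ⊓ centralizer (B₁ : Set G) ≤ ⁅Q, A⁆ ⊓ centralizer ((B₁ ⊓ B₂ : Subgroup G) : Set G) :=
    inf_le_inf_left _ (centralizer_anti inf_le_left)
  have l₂ : ⁅Q, A⁆ ⊓ centralizer (B₂ : Set G) ≤ ⁅Q, A⁆ ⊓ centralizer ((B₁ ⊓ B₂ : Subgroup G) : Set G) :=
    inf_le_inf_left _ (centralizer_anti inf_le_right)
  have hc : ∀ x ∈ ⁅Q, A⁆ ⊓ centralizer ((B₁ ⊓ B₂ : Subgroup G) : Set G),
      ∀ y ∈ ⁅Q, A⁆ ⊓ centralizer ((B₁ ⊓ B₂ : Subgroup G) : Set G), ⁅x, y⁆ ∈ zpowers z :=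
    fun x hx y hy => h.comm x hx.1 y (hEQ hy.1)
  have hs : ∀ x ∈ ⁅Q, A⁆ ⊓ centralizer ((B₁ ⊓ B₂ : Subgroup G) : Set G), x * x ∈ zpowers z :=
    fun x hx => h.sq x hx.1
  have hfp : ∀ B ≤ A, B.relIndex A = p → ∀ b ∈ A, b ∉ B →
      ∀ x ∈ ⁅Q, A⁆ ⊓ centralizer (B : Set G), ⁅b, x⁆ ∈ zpowers z → x ∈ zpowers z :=
    fun B hB i b hb hbB x hx hm => hfix B hB i b hb hbB (mem_inf.mpr ⟨hx, by
      rw [H4.centralizer_zpowers, mem_centralizer_singleton_iff]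
      exact (commute_of_conj_mem (hp.out.odd_of_ne_two hp2) (hA.2 b hb) hzz
        (mem_centralizer_singleton_iff.mp (hAz hb)) hm).symm⟩)
  have hsq : ∀ B : Subgroup G, ∀ b ∈ A, b ∉ B → b * b ∉ B := fun B b hb hbB e =>
    hbB (H7.zpowers_le_of_pow_mem (i := 2) (hA.2 b hb ▸ one_mem _)
      (fun hd => hp2 ((Nat.prime_dvd_prime_iff_eq hp.out Nat.prime_two).mp hd)) (pow_two b ▸ e))
  by_cases s₂ : ∃ x ∈ ⁅Q, A⁆ ⊓ centralizer (B₂ : Set G), x ∉ zpowers z ∧ x * x = 1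
  · obtain ⟨x, hx, hxz, hxx⟩ := s₂
    exact eight_caseA hz hF (hzB B₂ hB₂) l₁ l₂ hc hs h12 hi (hab B₁ hB₁ m₁) (hnE B₂ hB₂ (hB₁ hb₁))
      (mem_centralizer_singleton_iff.mp (hAz (hB₁ hb₁))) (hfp B₂ hB₂ i₂ b₁ (hB₁ hb₁) hb₁')
      (hfp B₂ hB₂ i₂ _ (mul_mem (hB₁ hb₁) (hB₁ hb₁)) (hsq B₂ b₁ (hB₁ hb₁) hb₁')) hx hxz hxx
  by_cases s₁ : ∃ x ∈ ⁅Q, A⁆ ⊓ centralizer (B₁ : Set G), x ∉ zpowers z ∧ x * x = 1
  · obtain ⟨x, hx, hxz, hxx⟩ := s₁
    exact eight_caseA hz hF (hzB B₁ hB₁) l₂ l₁ hc hs (le_centralizer_iff.mp h12)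
      (inf_comm (α := Subgroup G) _ _ ▸ hi) (hab B₂ hB₂ m₂') (hnE B₁ hB₁ (hB₂ hb₂))
      (mem_centralizer_singleton_iff.mp (hAz (hB₂ hb₂))) (hfp B₁ hB₁ i₁ b₂ (hB₂ hb₂) hb₂')
      (hfp B₁ hB₁ i₁ _ (mul_mem (hB₂ hb₂) (hB₂ hb₂)) (hsq B₁ b₂ (hB₂ hb₂) hb₂')) hx hxz hxx
  push Not at s₁ s₂
  exact eight_caseB hz hF (hzB B₁ hB₁) (hzB B₂ hB₂) l₁ l₂ hc h12 hi (hab B₁ hB₁ m₁) (hab B₂ hB₂ m₂')
    (fun x hx hxz => ((mem_zpowers_invol hzz).mp (h.sq x hx.1)).resolve_left (s₁ x hx hxz))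
    (fun x hx hxz => ((mem_zpowers_invol hzz).mp (h.sq x hx.1)).resolve_left (s₂ x hx hxz))

end H4
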