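import Cfsg.Agent.H4.KM1
import Cfsg.Agent.H4.AutQ
import Cfsg.Agent.H5.GenFix

/-!
Klinger-Mason: dihedral lemma consequences and an elementary abelian group of order 8 in
`C_E(B₀)`.
-/

set_option autoImplicit false
set_option linter.unusedSectionVars false

namespace H4

open Subgroup Cfsg H5
open scoped Pointwise commutatorElement

variable {G : Type*} [Group G] [Finite G] {p : ℕ} [hp : Fact p.Prime]

theorem not_two_dvd_of_pGroup (hp2 : p ≠ 2) {P : Subgroup G} (hP : IsPGroup p P) :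
    ¬ 2 ∣ Nat.card P :=
  (Nat.Prime.coprime_iff_not_dvd Nat.prime_two).mp (coprime_card_of_pGroup hp2 hP).symm

theorem not_dvd_of_twoGroup (hp2 : p ≠ 2) {P : Subgroup G} (hP : IsPGroup 2 P) :
    ¬ p ∣ Nat.card P :=
  (Nat.Prime.coprime_iff_not_dvd hp.out).mp (coprime_card_of_pGroup hp2.symm hP).symm

theorem exists_dual (hp2 : p ≠ 2) {P T : Subgroup G} (hP : IsPGroup p P)
    (hT : IsElementaryAbelian 2 T) (hn : T ≤ normalizer (P : Set G))
    (hf : T ⊓ centralizer (P : Set G) = ⊥) {d : ℕ} (hd : Nat.card T = 2 ^ d) :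
    ∃ a x : Fin d → G, (∀ i, a i ∈ T ∧ x i ∈ P ∧ x i ≠ 1 ∧ x i ^ p = 1 ∧
      a i * x i * (a i)⁻¹ = (x i)⁻¹) ∧ (∀ i j, i ≠ j → a i * x j = x j * a i) ∧
      (∀ i j, x i * x j = x j * x i) ∧ (⨆ i, zpowers (a i)) = T := by
  have hodd := not_two_dvd_of_pGroup hp2 hP
  obtain ⟨V, hVP, hVc, hVn, hVf⟩ := exists_abelian_faithful hT (isSolvable_of_isPGroup hP) hodd hn
  obtain ⟨a, x, h1, h2, h3, -⟩ := exists_dual_weights hT hVc (not_dvd_of_le hVP hodd) hVn d T le_rfl
    hd (le_bot_iff.mp ((le_inf inf_le_left hVf).trans hf.le))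
  have : ∀ i, ∃ n : ℕ, x i ^ n ≠ 1 ∧ (x i ^ n) ^ p = 1 := fun i => by
    obtain ⟨k, hk⟩ := exists_pow_pow_of_mem hP (hVP (h1 i).2.1)
    obtain ⟨j, hj1, hj2⟩ := H7.exists_pow_notMem_pow_mem (N := ⊥) hk (h1 i).2.2.1
    exact ⟨_, hj1, hj2⟩
  choose n hn1 hn2 using this
  refine ⟨a, fun i => x i ^ n i, fun i => ⟨(h1 i).1, pow_mem (hVP (h1 i).2.1) _, hn1 i, hn2 i, ?_⟩,
    fun i j hij => (Commute.pow_right (h2 i j hij) _), fun i j => Commute.pow_pow
      (comm_of_isMulCommutative hVc (h1 i).2.1 (h1 j).2.1) _ _, h3⟩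
  rw [← conj_pow, (h1 i).2.2.2, inv_pow]

theorem ne_inv_of_pow (hp2 : p ≠ 2) {x : G} (hx1 : x ≠ 1) (hxp : x ^ p = 1) : x ≠ x⁻¹ := fun e => by
  have h1 : x ^ 2 = 1 := by rw [pow_two]; exact mul_eq_one_iff_eq_inv.mpr e
  have h2 := Nat.dvd_gcd (orderOf_dvd_of_pow_eq_one h1) (orderOf_dvd_of_pow_eq_one hxp)
  rw [(Nat.coprime_primes Nat.prime_two hp.out).mpr hp2.symm, Nat.dvd_one, orderOf_eq_one_iff] at h2
  exact hx1 h2

theorem elem_sup_inverted (hp2 : p ≠ 2) {B : Subgroup G} (hB : IsElementaryAbelian p B) {x a : G}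
    (hx1 : x ≠ 1) (hxp : x ^ p = 1) (hxB : x ∈ centralizer (B : Set G))
    (haB : a ∈ centralizer (B : Set G)) (h : a * x * a⁻¹ = x⁻¹) :
    IsElementaryAbelian p (B ⊔ zpowers x : Subgroup G) ∧
      Nat.card (B ⊔ zpowers x : Subgroup G) = Nat.card B * p := by
  refine ⟨elem_sup hB (elem_zpowers (orderOf_eq_prime hxp hx1)) (le_centralizer_iff.mp
    (zpowers_le.mpr hxB)), H7.card_sup_zpowers (centralizer_le_normalizer _ hxB) (fun hx => ?_)
      (hxp ▸ one_mem _)⟩
  refine ne_inv_of_pow hp2 hx1 hxp ?_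
  rw [← h, ← haB x hx]; group

/-- hypotheses of the Klinger-Mason argument; `N` bounds the orders of the elementary abelian
`p`-subgroups centralizing an involution. -/
structure KM (G : Type*) [Group G] (p N : ℕ) : Prop where
  ne : p ≠ 2
  charp : ∀ B : Subgroup G, IsElementaryAbelian p B → B ≠ ⊥ → centralizer (B : Set G) ⊓
    centralizer (pCoreIn p (centralizer (B : Set G)) : Set G) ≤ pCoreIn p (centralizer (B : Set G))
  char2 : ∀ z : G, orderOf z = 2 → centralizer {z} ⊓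
    centralizer (pCoreIn 2 (centralizer ({z} : Set G)) : Set G) ≤ pCoreIn 2 (centralizer {z})
  max : ∀ (A : Subgroup G) (z : G), IsElementaryAbelian p A → orderOf z = 2 →
    A ≤ centralizer {z} → Nat.card A ≤ N

variable {N : ℕ}

theorem KM.dual (h : KM G p N) {B T : Subgroup G} (hB : IsElementaryAbelian p B) (h0 : B ≠ ⊥)
    (hT : IsElementaryAbelian 2 T) (hTB : T ≤ centralizer (B : Set G)) {d : ℕ}
    (hd : Nat.card T = 2 ^ d) :
    ∃ a x : Fin d → G, (∀ i, a i ∈ T ∧ x i ∈ pCoreIn p (centralizer (B : Set G)) ∧ x i ≠ 1 ∧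
      x i ^ p = 1 ∧ a i * x i * (a i)⁻¹ = (x i)⁻¹) ∧ (∀ i j, i ≠ j → a i * x j = x j * a i) ∧
      (∀ i j, x i * x j = x j * x i) ∧ (⨆ i, zpowers (a i)) = T := by
  refine exists_dual h.ne (isPGroup_pCoreIn p _) hT (hTB.trans (le_normalizer_pCoreIn p _)) ?_ hd
  refine le_bot_iff.mp ((le_inf ((inf_le_inf_right _ hTB).trans (h.charp B hB h0)) inf_le_left).trans
    (inf_eq_bot_of_pGroup_coprime (isPGroup_pCoreIn p _)
      (coprime_card_of_pGroup h.ne.symm (isPGroup_of_elem hT))).le)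

theorem orderOf_of_inverts (hp2 : p ≠ 2) {T : Subgroup G} (hT : IsElementaryAbelian 2 T) {a x : G}
    (ha : a ∈ T) (hx1 : x ≠ 1) (hxp : x ^ p = 1) (h : a * x * a⁻¹ = x⁻¹) : orderOf a = 2 :=
  orderOf_eq_of_elem hT ha fun e => ne_inv_of_pow hp2 hx1 hxp (by rw [← h, e]; group)

theorem KM.two (h : KM G p N) {B T : Subgroup G} (hB : IsElementaryAbelian p B) (h0 : B ≠ ⊥)
    (hT : IsElementaryAbelian 2 T) (hTB : T ≤ centralizer (B : Set G))
    (hd : 2 ^ 2 ≤ Nat.card T) : Nat.card B * p ≤ N := by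
  obtain ⟨T', hT', hc⟩ := exists_le_card_eq (isPGroup_of_elem hT) hd
  obtain ⟨a, x, h1, h2, -, -⟩ := h.dual hB h0 (elem_of_le hT hT') (hT'.trans hTB) hc
  obtain ⟨e1, e2⟩ := elem_sup_inverted h.ne hB (h1 1).2.2.1 (h1 1).2.2.2.1
    (pCoreIn_le p _ (h1 1).2.1) (hTB (hT' (h1 1).1)) (h1 1).2.2.2.2
  rw [← e2]
  refine h.max _ (a 0) e1 (orderOf_of_inverts h.ne hT (hT' (h1 0).1) (h1 0).2.2.1 (h1 0).2.2.2.1
    (h1 0).2.2.2.2) (sup_le (fun b hb => mem_centralizer_singleton_iff.mpr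
      (hTB (hT' (h1 0).1) b hb)) (zpowers_le.mpr (mem_centralizer_singleton_iff.mpr
        (h2 0 1 (by decide)).symm)))

theorem KM.three (h : KM G p N) {B T : Subgroup G} (hB : IsElementaryAbelian p B) (h0 : B ≠ ⊥)
    (hT : IsElementaryAbelian 2 T) (hTB : T ≤ centralizer (B : Set G))
    (hd : Nat.card T = 2 ^ 3) {z : G} (hz : z ∈ T) (hz1 : z ≠ 1) :
    ∃ t ∈ T, t ∉ zpowers z ∧ ∃ A : Subgroup G, IsElementaryAbelian p A ∧ B ≤ A ∧
      A ≤ pCoreIn p (centralizer (B : Set G)) ∧ A ≤ centralizer {t} ∧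
      Nat.card A = Nat.card B * p * p ∧ z ∉ centralizer (A : Set G) := by
  obtain ⟨a, x, h1, h2, h3, h4⟩ := h.dual hB h0 hT hTB hd
  have haa : ∀ i, a i * a i = 1 := fun i => by rw [← pow_two]; exact hT.2 _ (h1 i).1
  have hne : ∀ i, ¬ Commute (a i) (x i) := fun i e =>
    ne_inv_of_pow h.ne (h1 i).2.2.1 (h1 i).2.2.2.1 (by rw [← (h1 i).2.2.2.2, e.eq]; group)
  have hj : ∃ j, ¬ Commute z (x j) := by
    by_contra! hc
    have hle : T ≤ zpowers (a 0) ⊔ (zpowers (a 1) ⊔ zpowers (a 2)) := by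
      rw [← h4]
      refine iSup_le fun i => ?_
      fin_cases i
      exacts [le_sup_left, le_sup_left.trans le_sup_right, le_sup_right.trans le_sup_right]
    have hz' : ∀ i, zpowers (a i) ≤ T := fun i => zpowers_le.mpr (h1 i).1
    obtain ⟨b0, hb0, y, hy, rfl⟩ := (mem_sup_of_le_normalizer_right
      ((hz' 0).trans (le_normalizer_of_comm hT.1 (sup_le (hz' 1) (hz' 2))))).mp (hle hz)
    obtain ⟨b1, hb1, b2, hb2, rfl⟩ := (mem_sup_of_le_normalizer_right
      ((hz' 1).trans (le_normalizer_of_comm hT.1 (hz' 2)))).mp hy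
    have hcm : ∀ i j, i ≠ j → ∀ b ∈ zpowers (a i), Commute b (x j) := fun i j hij b hb => by
      rcases (mem_zpowers_invol (haa i)).mp hb with rfl | rfl
      exacts [Commute.one_left _, h2 i j hij]
    have hone : ∀ i, ∀ b ∈ zpowers (a i), Commute b (x i) → b = 1 := fun i b hb e => by
      rcases (mem_zpowers_invol (haa i)).mp hb with rfl | rfl
      exacts [rfl, (hne i e).elim]
    have e0 : b0 = 1 := hone 0 _ hb0 (by
      have := (hc 0).mul_left ((hcm 1 0 (by decide) _ hb1).mul_left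
        (hcm 2 0 (by decide) _ hb2)).inv_left
      rwa [mul_inv_cancel_right] at this)
    have e1 : b1 = 1 := hone 1 _ hb1 (by
      have := (hc 1).mul_left (hcm 2 1 (by decide) _ hb2).inv_left
      rwa [e0, one_mul, mul_inv_cancel_right] at this)
    have e2 : b2 = 1 := hone 2 _ hb2 (by
      have := hc 2
      rwa [e0, e1, one_mul, one_mul] at this)
    exact hz1 (by rw [e0, e1, e2, one_mul, one_mul])
  obtain ⟨j, hj⟩ := hj
  obtain ⟨i, k, hij, hkj, hik⟩ := (by decide : ∀ j : Fin 3, ∃ i k : Fin 3, i ≠ j ∧ k ≠ j ∧ i ≠ k) j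
  obtain ⟨e1, e2⟩ := elem_sup_inverted h.ne hB (h1 j).2.2.1 (h1 j).2.2.2.1
    (pCoreIn_le p _ (h1 j).2.1) (hTB (h1 j).1) (h1 j).2.2.2.2
  have hc : ∀ y, y ∈ centralizer (B : Set G) → y * x j = x j * y →
      y ∈ centralizer ((B ⊔ zpowers (x j) : Subgroup G) : Set G) := fun y h1 h2 => by
    rw [centralizer_sup, H4.centralizer_zpowers]
    exact ⟨h1, mem_centralizer_singleton_iff.mpr h2⟩
  obtain ⟨e3, e4⟩ := elem_sup_inverted h.ne e1 (h1 k).2.2.1 (h1 k).2.2.2.1
    (hc _ (pCoreIn_le p _ (h1 k).2.1) (h3 k j)) (hc _ (hTB (h1 k).1) (h2 k j hkj)) (h1 k).2.2.2.2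
  have hzz : z * z = 1 := by rw [← pow_two]; exact hT.2 _ hz
  refine ⟨a i, (h1 i).1, fun hm => ?_, _, e3, le_sup_left.trans le_sup_left,
    sup_le (sup_le (le_pCoreIn (le_centralizer_of_comm hB.1 le_rfl le_rfl)
      (H4.le_normalizer_of_le_centralizer le_rfl) (isPGroup_of_elem hB))
      (zpowers_le.mpr (h1 j).2.1)) (zpowers_le.mpr (h1 k).2.1),
    sup_le (sup_le (fun b hb => mem_centralizer_singleton_iff.mpr (hTB (h1 i).1 b hb))
      (zpowers_le.mpr (mem_centralizer_singleton_iff.mpr (h2 i j hij).symm)))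
      (zpowers_le.mpr (mem_centralizer_singleton_iff.mpr (h2 i k hik).symm)), by rw [e4, e2],
    fun hm => hj (hm _ (mem_sup_left (mem_sup_right (mem_zpowers _)))).symm⟩
  rcases (mem_zpowers_invol hzz).mp hm with e | e
  · exact hne i (by rw [e]; exact Commute.one_left _)
  · exact hj (e ▸ h2 i j hij)

theorem commute_of_conj_mem {a u z : G} {n : ℕ} (hn : Odd n) (ha : a ^ n = 1) (hz : z * z = 1)
    (haz : a * z = z * a) (h : ⁅a, u⁆ ∈ zpowers z) : a * u = u * a := by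
  rcases comm_or_of_mem hz h with e | e
  · exact e
  have h2 : Commute (a ^ 2) u := by
    rw [Commute, SemiconjBy, pow_two, mul_assoc, e, ← mul_assoc, haz, mul_assoc, ← mul_assoc a, e]
    simp only [← mul_assoc, hz, one_mul]
  obtain ⟨k, rfl⟩ := hn
  have : a = ((a ^ 2) ^ k)⁻¹ := by
    rw [eq_inv_iff_mul_eq_one, ← pow_mul, ← pow_succ', ha]
  rw [this]
  exact (h2.pow_left k).inv_left

theorem KM.elem_le (h : KM G p N) {A V : Subgroup G} {z : G} (hA : IsElementaryAbelian p A)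
    (hAN : Nat.card A = N) (hN : p ^ 2 ≤ N) (hz : orderOf z = 2) (hAz : A ≤ centralizer {z})
    (hVz : V ≤ centralizer {z}) (hV : IsElementaryAbelian 2 V) (hn : A ≤ normalizer (V : Set G)) :
    V ≤ zpowers z := by
  have hzz := mul_self_eq_one_of_orderOf hz
  have hp1 := hp.out.one_lt
  have hA0 : A ≠ ⊥ := ne_bot_of_card_ge (k := 1) (hAN ▸ hN)
  have hW : IsElementaryAbelian 2 (V ⊔ zpowers z : Subgroup G) :=
    elem_sup hV (elem_zpowers hz) (hVz.trans (H4.centralizer_zpowers z).ge)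
  have hWn := H4.le_normalizer_sup hn (le_normalizer_zpowers hAz)
  refine le_sup_left.trans (le_of_hyperplanes hA hA0 hWn
    (not_dvd_of_twoGroup h.ne (isPGroup_of_elem hW)) fun B hBA hB => ?_)
  have hcB := H5.card_mul_relIndex hBA
  rw [hB, hAN] at hcB
  have hB0 : B ≠ ⊥ := fun e => by
    rw [e, card_bot] at hcB
    nlinarith
  have hU := elem_of_le hW (inf_le_left (b := centralizer (B : Set G)))
  have hUn : A ≤ normalizer ((((V ⊔ zpowers z) ⊓ centralizer (B : Set G) : Subgroup G)) : Set G) :=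
    H4.le_normalizer_inf hWn (H4.le_normalizer_centralizer (le_normalizer_of_comm hA.1 hBA))
  have hzU : z ∈ (V ⊔ zpowers z) ⊓ centralizer (B : Set G) :=
    ⟨mem_sup_right (mem_zpowers z), zpowers_le_centralizer (hBA.trans hAz) (mem_zpowers z)⟩
  have hUB : (V ⊔ zpowers z) ⊓ centralizer (B : Set G) ≤ centralizer (B : Set G) := inf_le_right
  generalize (V ⊔ zpowers z) ⊓ centralizer (B : Set G) = U at hU hUn hzU hUB
  have hc : Nat.card U ≤ 2 ^ 2 := by
    by_contra! hc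
    obtain ⟨T, hT, hc⟩ := exists_le_card_eq (isPGroup_of_elem hU)
      (H7.pow_succ_le_card_of_lt (isPGroup_of_elem hU) hc)
    obtain ⟨w, hw, hw1⟩ := exists_ne_one_of_ne_bot (ne_bot_of_card_ge (k := 2) hc.ge)
    obtain ⟨t, ht, htw, A', e1, -, -, e2, e3, -⟩ := h.three (elem_of_le hA hBA) hB0
      (elem_of_le hU hT) (hT.trans hUB) hc hw hw1
    have := h.max A' t e1 (orderOf_eq_of_elem hU (hT ht) fun e => htw (e ▸ one_mem _)) e2
    rw [e3, hcB] at this
    nlinarith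
  intro u hu
  by_contra huz
  rw [mem_zpowers_invol hzz, not_or] at huz
  have huu : u * u = 1 := by rw [← pow_two]; exact hU.2 u hu
  have huz' : u * z = z * u := comm_of_isMulCommutative hU.1 hu hzU
  have h4 := le_card_four huu hzz huz' huz.1 (ne_one_of_orderOf hz) huz.2
  have hUe : four u z huu hzz huz' = U :=
    eq_of_le_of_card_ge (four_le huu hzz huz' hu hzU) (hc.trans h4)
  have hAu : four u z huu hzz huz' ≤ centralizer (A : Set G) := by
    refine four_le huu hzz huz' (fun a ha => ?_) (zpowers_le_centralizer hAz (mem_zpowers z))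
    have haz : a * z = z * a := mem_centralizer_singleton_iff.mp (hAz ha)
    refine commute_of_conj_mem (hp.out.odd_of_ne_two h.ne) (hA.2 a ha) hzz haz ?_
    have := hUe.ge (conj_mem_of_le_normalizer hUn ha hu)
    rcases (mem_four huu hzz huz').mp this with e | e | e | e
    · exact (huz.1 (by rw [show u = a⁻¹ * (a * u * a⁻¹) * a by group, e]; group)).elim
    · rw [commutatorElement_def, e, mul_inv_cancel]; exact one_mem _
    · exact (huz.2 (by rw [show u = a⁻¹ * (a * u * a⁻¹) * a by group, e, mul_assoc, ← haz]; group)).elim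
    · rw [commutatorElement_def, e, huz', mul_inv_cancel_right]; exact mem_zpowers z
  have := h.two hA hA0 (elem_four huu hzz huz') hAu h4
  rw [hAN] at this
  nlinarith

theorem KM.es (h : KM G p N) {A : Subgroup G} {z : G} (hA : IsElementaryAbelian p A)
    (hAN : Nat.card A = N) (hN : p ^ 2 ≤ N) (hz : orderOf z = 2) (hAz : A ≤ centralizer {z}) :
    ES A (pCoreIn 2 (centralizer {z})) z :=
  es_of (isPGroup_pCoreIn 2 _) (not_two_dvd_of_pGroup h.ne (isPGroup_of_elem hA))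
    (hAz.trans (le_normalizer_pCoreIn 2 _)) (pCoreIn_le 2 _) hAz fun _ hV hV2 hn =>
      h.elem_le hA hAN hN hz hAz (hV.trans (pCoreIn_le 2 _)) hV2 hn

end H4
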