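import Cfsg.Agent.H4.KM3
import Cfsg.Agent.H9.Loc2

/-!
Klinger-Mason: the counting argument.
-/

set_option autoImplicit false
set_option linter.unusedSectionVars false

namespace H4

open Subgroup Cfsg H5
open scoped Pointwise commutatorElement

variable {G : Type*} [Group G] [Finite G]

theorem ES.inf_le {A Q Q' : Subgroup G} {z t : G} (h : ES A Q z) (hQ : IsPGroup 2 Q)
    (hQs : ⁅Q, A⁆ ⊔ Q ⊓ centralizer (A : Set G) = Q) (hz : orderOf z = 2)
    (hQz : Q ≤ centralizer {z}) (hAz : A ≤ centralizer {z}) (htE : t ∈ ⁅Q, A⁆)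
    (htz : t ∉ zpowers z) (htQ : t ∈ Q')
    (hn : Q ⊓ centralizer {t} ≤ normalizer (Q' : Set G)) (hzQ : z ∉ Q') :
    Q ⊓ Q' ≤ zpowers t := by
  have hzz := mul_self_eq_one_of_orderOf hz
  have hEQ : ⁅Q, A⁆ ≤ Q := le_sup_left.trans hQs.le
  have hzc : ∀ a ∈ Q, a * z = z * a := fun a ha => mem_centralizer_singleton_iff.mp (hQz ha)
  have hC : ∀ c ∈ Q ⊓ centralizer (A : Set G), c ∈ Q' → c = 1 := fun c hc hc' => by
    by_contra h1
    have hp : IsPGroup 2 (zpowers c) := hQ.to_le (zpowers_le.mpr hc.1)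
    obtain ⟨w, hw, hw1, hw2, -⟩ := H7.exists_fixed_order_p hp hp Subgroup.le_normalizer
      (by rwa [Ne, zpowers_eq_bot])
    rcases (mem_zpowers_invol hzz).mp (h.inv w (zpowers_le.mpr hc hw) (by rw [← pow_two, hw2]))
      with e | e
    · exact hw1 e
    · exact hzQ (e ▸ zpowers_le.mpr hc' hw)
  obtain ⟨s, hs, hst⟩ : ∃ s ∈ ⁅Q, A⁆, s * t = z * (t * s) := by
    by_contra! hc
    exact htz (h.zen ⟨htE, fun s hs =>
      (comm_or_of_mem hzz (h.comm s hs t (hEQ htE))).resolve_right (hc s hs)⟩)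
  have hsub : ∀ e ∈ ⁅Q, A⁆, (∀ y ∈ ⁅Q, A⁆, y * t = t * y → y * e = e * y) → s * e = e * s →
      e ∈ zpowers z := fun e he h1 h2 => h.zen ⟨he, fun y hy => by
    rcases comm_or_of_mem hzz (h.comm y hy t (hEQ htE)) with e1 | e1
    · exact h1 y hy e1
    · have := h1 (y * s) (mul_mem hy hs) (by
        calc y * s * t = y * z * (t * s) := by rw [mul_assoc, hst]; group
          _ = z * (y * t) * s := by rw [hzc y (hEQ hy)]; group
          _ = _ := by rw [e1, ← mul_assoc z z, hzz]; group)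
      rw [mul_assoc, h2, ← mul_assoc, ← mul_assoc, mul_left_inj] at this
      exact this⟩
  rintro n ⟨hnQ, hnQ'⟩
  obtain ⟨e, he, c, hc, rfl⟩ := (mem_sup_of_le_normalizer_left
    (inf_le_left.trans (normalizer_commutator_ge_left Q A))).mp (hQs.ge hnQ)
  have hce : ∀ y ∈ ⁅Q, A⁆, c * y = y * c := fun y hy => h.cen hy c hc
  have h1 : ∀ y ∈ ⁅Q, A⁆, y * t = t * y → y * e = e * y := fun y hy hyt => by
    have hm : ⁅y, e * c⁆ ∈ Q' := by
      rw [commutatorElement_def]
      exact mul_mem (conj_mem_of_le_normalizer hn ⟨hEQ hy, mem_centralizer_singleton_iff.mpr hyt⟩ hnQ')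
        (inv_mem hnQ')
    rcases (mem_zpowers_invol hzz).mp (h.comm y hy _ hnQ) with e1 | e1
    · rw [commutatorElement_eq_one_iff_mul_comm, mul_assoc, hce y hy, ← mul_assoc, ← mul_assoc,
        mul_left_inj] at e1
      exact e1
    · exact (hzQ (e1 ▸ hm)).elim
  have hzQ' : z ∈ Q := by
    rw [show z = ⁅s, t⁆ by rw [commutatorElement_def, hst]; group]
    exact commutator_le_left_of_le_normalizer Subgroup.le_normalizer
      (commutator_mem_commutator (hEQ hs) (hEQ htE))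
  have hzC : zpowers z ≤ Q ⊓ centralizer (A : Set G) :=
    le_inf (zpowers_le.mpr hzQ') (zpowers_le_centralizer hAz)
  rcases comm_or_of_mem hzz (h.comm s hs e (hEQ he)) with e1 | e1
  · rw [hC _ (mul_mem (hzC (hsub e he h1 e1)) hc) hnQ']
    exact one_mem _
  · have h2 := hsub (t * e) (mul_mem htE he) (fun y hy hyt => by
      rw [← mul_assoc, hyt, mul_assoc, h1 y hy hyt, mul_assoc]) (by
      calc s * (t * e) = z * t * (s * e) := by rw [← mul_assoc, hst]; group
        _ = z * (t * z) * (e * s) := by rw [e1]; group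
        _ = _ := by rw [hzc t (hEQ htE), ← mul_assoc z z, hzz]; group)
    have h3 := hC _ (mul_mem (hzC h2) hc) (by rw [mul_assoc]; exact mul_mem htQ hnQ')
    rw [mul_assoc, mul_eq_one_iff_eq_inv'] at h3
    rw [h3]
    exact inv_mem (mem_zpowers t)

/-- the main counting inequality -/
theorem ES.card_lt {A Q A' Q' B : Subgroup G} {z t : G} (h : ES A Q z) (h' : ES A' Q' t)
    (hQ : IsPGroup 2 Q) (hQ' : IsPGroup 2 Q') (hA : ¬ 2 ∣ Nat.card A)
    (hz : orderOf z = 2) (ht : orderOf t = 2) (hAz : A ≤ centralizer {z})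
    (hAt : A' ≤ centralizer {t}) (hQz : Q ≤ centralizer {z}) (hQt : Q' ≤ centralizer {t})
    (hnz : centralizer {z} ≤ normalizer (Q : Set G))
    (hnt : centralizer {t} ≤ normalizer (Q' : Set G))
    (hch : centralizer {z} ⊓ centralizer (Q : Set G) ≤ Q)
    (hBA : B ≤ A) (hBA' : B ≤ A') (hA'B : A' ≤ normalizer (B : Set G)) (htE : t ∈ ⁅Q, A⁆) (htz : t ∉ zpowers z)
    (hzE : z ∈ ⁅Q, A⁆) (htE' : t ∈ ⁅Q', A'⁆)
    (hfix : Q' ⊓ centralizer (B : Set G) ≤ centralizer (A' : Set G)) (hzQ : z ∉ Q') :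
    Nat.card (⁅Q', A'⁆ : Subgroup G) < Nat.card (⁅Q, A⁆ : Subgroup G) := by
  have hzz := mul_self_eq_one_of_orderOf hz
  have htt := mul_self_eq_one_of_orderOf ht
  have hB : ¬ 2 ∣ Nat.card B := not_dvd_of_le hBA hA
  have gen : ∀ {X B : Subgroup G}, IsPGroup 2 X → ¬ 2 ∣ Nat.card B → B ≤ normalizer (X : Set G) →
      ⁅X, B⁆ ⊔ X ⊓ centralizer (B : Set G) = X := fun hX hB hn =>
    commutator_sup_centralizer hn (coprime_card_of_isPGroup hX hB).symm
      (Or.inr (isSolvable_of_isPGroup hX))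
  have hAQ := hAz.trans hnz
  have hAQ' := hAt.trans hnt
  have hBz := hBA.trans hAz
  have hBt := hBA'.trans hAt
  have hQs := gen hQ hA hAQ
  have hEQ : ⁅Q, A⁆ ≤ Q := le_sup_left.trans hQs.le
  have hEQ' : ⁅Q', A'⁆ ≤ Q' := commutator_le_left_of_le_normalizer hAQ'
  have hzt : z * t = t * z := (mem_centralizer_singleton_iff.mp (hQz (hEQ htE))).symm
  have hzt' : z ∈ centralizer ({t} : Set G) := mem_centralizer_singleton_iff.mpr hzt
  have hzB : z ∈ centralizer (B : Set G) := zpowers_le_centralizer hBz (mem_zpowers z)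
  have htB : t ∈ centralizer (B : Set G) := zpowers_le_centralizer hBt (mem_zpowers t)
  have hzc : ∀ a ∈ Q, a * z = z * a := fun a ha => mem_centralizer_singleton_iff.mp (hQz ha)
  -- `E' = [Q', B]`
  have hE' : ⁅Q', A'⁆ = ⁅Q', B⁆ := by
    refine le_antisymm ?_ (commutator_mono le_rfl hBA')
    rw [commutator_comm]
    nth_rewrite 1 [← gen hQ' hB (hBA'.trans hAQ')]
    refine commutator_sup_le_of_normalizer Subgroup.le_normalizer
      (inf_le_left.trans (normalizer_commutator_ge_left Q' B))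
      (le_normalizer_iff_commutator_le_right.mp (H4.le_normalizer_commutator hAQ' hA'B)) ?_
    rw [commutator_eq_bot_iff_le_centralizer.mpr (le_centralizer_iff.mp hfix)]
    exact bot_le
  have hzE' : zpowers z ≤ normalizer ((⁅Q', A'⁆ : Subgroup G) : Set G) := by
    rw [hE']
    exact H4.le_normalizer_commutator (zpowers_le.mpr (hnt hzt'))
      (zpowers_le.mpr (centralizer_le_normalizer _ hzB))
  have hBE' : B ≤ normalizer ((⁅Q', A'⁆ : Subgroup G) : Set G) :=
    hBA'.trans (normalizer_commutator_ge_right Q' A')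
  have hcE' : ∀ e ∈ ⁅Q', A'⁆, ∀ e' ∈ ⁅Q', A'⁆, ⁅e, e'⁆ ∈ zpowers t := fun e he e' he' =>
    h'.comm e he e' (hEQ' he')
  have hsE' := h'.sq
  have hfE' : ⁅Q', A'⁆ ⊓ centralizer (B : Set G) ≤ zpowers t :=
    (le_inf inf_le_left ((inf_le_inf_right _ hEQ').trans hfix)).trans h'.fix
  clear hE'
  generalize ⁅Q', A'⁆ = E' at hEQ' hzE' hBE' hcE' hsE' hfE' htE' ⊢
  have hE't := hEQ'.trans hQt
  have genR : ∀ Y ≤ E', B ≤ normalizer (Y : Set G) → ∀ H, ⁅Y, B⁆ ≤ H → t ∈ H → Y ≤ H :=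
    fun Y hY hn H h1 h2 => (gen (hQ'.to_le (hY.trans hEQ')) hB hn).ge.trans
      (sup_le h1 (((inf_le_inf_right _ hY).trans hfE').trans (zpowers_le.mpr h2)))
  have htB' : zpowers t ≤ centralizer (B : Set G) := zpowers_le.mpr htB
  have f4 : ∀ e ∈ E', ⁅z, e⁆ ∈ zpowers t → e ∈ centralizer ({z} : Set G) := fun e he hm => by
    refine genR (E' ⊓ cMod (zpowers z) (zpowers t)) inf_le_left (H4.le_normalizer_inf hBE'
      ((le_inf (le_normalizer_zpowers hBz) (le_normalizer_zpowers hBt)).trans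
        normalizer_le_normalizer_cMod)) _ (commutator_le_centralizer_of_conj hzB fun r hr => ?_)
      (mem_centralizer_singleton_iff.mpr hzt.symm) ⟨he, le_normalizer_zpowers hE't he, fun k hk => ?_⟩
    · rw [show r⁻¹ * z * r = ⁅z, r⁻¹⁆⁻¹ * z by simp only [commutatorElement_def]; group]
      exact mul_mem (inv_mem (htB' ((inv_mem hr).2.2 z (mem_zpowers z)))) hzB
    · rcases (mem_zpowers_invol hzz).mp hk with rfl | rfl
      · simp
      · exact hm
  have hN := h.inf_le hQ hQs hz hQz hAz htE htz (hEQ' htE') (inf_le_right.trans hnt) hzQ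
  have hBQ := hBA.trans hAQ
  have hBE : B ≤ normalizer ((⁅Q, A⁆ : Subgroup G) : Set G) :=
    hBA.trans (normalizer_commutator_ge_right Q A)
  have hUE : ⁅Q, B⁆ ⊔ zpowers z ≤ ⁅Q, A⁆ := sup_le (commutator_mono le_rfl hBA) (zpowers_le.mpr hzE)
  have f5' : ∀ s ∈ Q ⊓ centralizer (B : Set G), ⁅⁅Q, A⁆, B⁆ ≤ centralizer {s} := fun s hs =>
    commutator_le_centralizer_of_conj hs.2 fun r hr => h.conj_mem hAz hBA hr hs.1 hs.2
  have f5 : ∀ s ∈ Q ⊓ centralizer (B : Set G), ⁅Q, B⁆ ⊔ zpowers z ≤ centralizer {s} := fun s hs => by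
    refine sup_le ?_ (zpowers_le.mpr (mem_centralizer_singleton_iff.mpr (hzc s hs.1).symm))
    rw [← commutator_commutator_eq hBQ (coprime_card_of_isPGroup hQ hB).symm
      (Or.inr (isSolvable_of_isPGroup hQ))]
    exact (commutator_mono (commutator_mono le_rfl hBA) le_rfl).trans (f5' s hs)
  have f6 : ∀ H, ⁅Q, B⁆ ⊔ zpowers z ≤ H → Q ⊓ centralizer (B : Set G) ≤ H → Q ≤ H := fun H h1 h2 =>
    (gen hQ hB hBQ).ge.trans (sup_le (le_sup_left.trans h1) h2)
  have hBU : B ≤ normalizer ((⁅Q, B⁆ ⊔ zpowers z : Subgroup G) : Set G) :=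
    H4.le_normalizer_sup (normalizer_commutator_ge_right Q B) (le_normalizer_zpowers hBz)
  have hQB : ⁅Q, B⁆ ≤ ⁅Q, B⁆ ⊔ zpowers z := le_sup_left
  have hzU : z ∈ ⁅Q, B⁆ ⊔ zpowers z := mem_sup_right (mem_zpowers z)
  obtain ⟨s, hs, hst⟩ : ∃ s ∈ ⁅Q, A⁆ ⊓ centralizer (B : Set G), s * t = z * (t * s) := by
    by_contra! hc
    refine htz (h.zen ⟨htE, fun y hy => mem_centralizer_singleton_iff.mp
      ((gen (hQ.to_le hEQ) hB hBE).ge.trans (sup_le (f5' t ⟨hEQ htE, htB⟩) fun s hs => ?_) hy)⟩)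
    exact mem_centralizer_singleton_iff.mpr
      ((comm_or_of_mem hzz (h.comm s hs.1 t (hEQ htE))).resolve_right (hc s hs))
  generalize ⁅Q, B⁆ ⊔ zpowers z = U at hUE f5 f6 hBU hQB hzU
  have hUQ := hUE.trans hEQ
  have f7 : U ⊓ centralizer (U : Set G) ≤ zpowers z := fun u hu => h.zen ⟨hUE hu.1, fun y hy =>
    mem_centralizer_singleton_iff.mp (f6 (centralizer {u})
      (fun y hy => mem_centralizer_singleton_iff.mpr (hu.2 y hy))
      (fun s hs => mem_centralizer_singleton_iff.mpr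
        (mem_centralizer_singleton_iff.mp (f5 s hs hu.1)).symm) (hEQ hy))⟩
  have f8 : Q ⊓ centralizer (U : Set G) ≤ centralizer (B : Set G) := by
    have hn := H4.le_normalizer_inf hBQ (H4.le_normalizer_centralizer hBU)
    exact le_centralizer_of_commutator_le hn
      (coprime_card_of_isPGroup (hQ.to_le inf_le_left) hB).symm
      (Or.inr (isSolvable_of_isPGroup (hQ.to_le inf_le_left)))
      ((le_inf ((commutator_mono inf_le_left le_rfl).trans hQB)
        ((commutator_le_left_of_le_normalizer hn).trans inf_le_right)).trans f7)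
      (zpowers_le_centralizer hBz)
  have hUt : U ≤ centralizer {t} := f5 t ⟨hEQ htE, htB⟩
  have htU : t ∉ U := fun hm => htz (f7 ⟨hm, zpowers_le_centralizer hUt (mem_zpowers t)⟩)
  set R := E' ⊓ centralizer {z} with hR
  have hRQ : R ≤ normalizer (Q : Set G) := inf_le_right.trans hnz
  have hBR : B ≤ normalizer (R : Set G) :=
    H4.le_normalizer_inf hBE' (le_normalizer_centralizer_singleton hBz)
  have f10 : ∀ r ∈ R, ∀ q ∈ Q, q ∈ centralizer ({t} : Set G) → ⁅r, q⁆ ∈ zpowers t :=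
    fun r hr q hq hqt => hN (mem_inf.mpr
      ⟨mul_mem (conj_mem_of_le_normalizer hRQ hr hq) (inv_mem hq), by
      rw [commutatorElement_def, mul_assoc, mul_assoc, ← mul_assoc q]
      exact mul_mem (hEQ' hr.1) (conj_mem_of_le_normalizer hnt hqt (inv_mem (hEQ' hr.1)))⟩)
  have f11 : R ⊓ centralizer (U : Set G) ≤ zpowers t := by
    have hn := H4.le_normalizer_inf hBR (H4.le_normalizer_centralizer hBU)
    have hle := commutator_le_left_of_le_normalizer hn
    refine genR _ (inf_le_left.trans inf_le_left) hn _ (le_trans (le_inf (le_trans (le_inf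
      (hle.trans (inf_le_left.trans inf_le_right)) (le_centralizer_iff.mp (f6 _
        (le_centralizer_iff.mp (hle.trans inf_le_right)) fun s hs => ?_))) hch)
      (hle.trans (inf_le_left.trans (inf_le_left.trans hEQ')))) hN) (mem_zpowers t)
    refine fun y hy => mem_centralizer_singleton_iff.mp
      (commutator_le_centralizer_of_conj (R := R ⊓ centralizer (U : Set G)) hs.2 (fun r hr => f8
        (mem_inf.mpr ⟨inv_conj_mem_of_le_normalizer hRQ hr.1
        hs.1, mul_mem (mul_mem (inv_mem (mem_inf.mp hr).2) fun u hu =>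
          mem_centralizer_singleton_iff.mp (f5 s hs hu)) hr.2⟩)) hy)
  have hU1 : U ⊔ zpowers t ≤ Q ⊓ centralizer {t} := sup_le (le_inf hUQ hUt)
    (zpowers_le.mpr ⟨hEQ htE, mem_centralizer_singleton_iff.mpr rfl⟩)
  have f12 : R ≤ cMod Q (U ⊔ zpowers t) := by
    have hRU : R ≤ normalizer ((U ⊔ zpowers t : Subgroup G) : Set G) :=
      le_normalizer_iff_commutator_le_right.mpr (commutator_le.mpr fun r hr q hq =>
        mem_sup_right (f10 r hr q (hU1 hq).1 (hU1 hq).2))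
    refine genR R inf_le_left hBR _ ((commutator_mono le_rfl (le_cMod_iff.mpr
      ⟨H4.le_normalizer_sup hBU (le_normalizer_zpowers hBt), hQB.trans le_sup_left⟩)).trans
      (le_normalizer_iff_commutator_le_right.mp ((le_inf hRQ hRU).trans
        normalizer_le_normalizer_cMod))) ⟨Subgroup.le_normalizer (mem_sup_right (mem_zpowers t)),
          fun q hq => mem_sup_left ?_⟩
    rw [← commutatorElement_inv]
    exact inv_mem (zpowers_le.mpr hzU (h.comm t htE q hq))
  have hsQ := hEQ hs.1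
  have hnU : ∀ r ∈ R, ⁅s⁻¹, r⁆ ∈ U ⊔ zpowers t := fun r hr => (f12 hr).2 _ (inv_mem hsQ)
  have hrs : ∀ r, r * s * r⁻¹ = s * ⁅s⁻¹, r⁆ := fun r => by rw [commutatorElement_def]; group
  have hnt' : ∀ r ∈ R, ⁅s⁻¹, r⁆ * t = t * ⁅s⁻¹, r⁆ := fun r hr =>
    mem_centralizer_singleton_iff.mp (hU1 (hnU r hr)).2
  have hz1 := ne_one_of_orderOf hz
  have fI : ∀ r ∈ R, ∀ q ∈ U, r * q = q * r ↔ q * ⁅s⁻¹, r⁆ = ⁅s⁻¹, r⁆ * q := fun r hr q hq => by
    have h1 : q * s = s * q := mem_centralizer_singleton_iff.mp (f5 s ⟨hsQ, hs.2⟩ hq)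
    have h2 : r * q * r⁻¹ * (s * ⁅s⁻¹, r⁆) = s * ⁅s⁻¹, r⁆ * (r * q * r⁻¹) := by
      rw [← hrs]
      calc _ = r * (q * s) * r⁻¹ := by group
        _ = _ := by rw [h1]; group
    have h3 := hnt' r hr
    generalize ⁅s⁻¹, r⁆ = n at h2 h3 ⊢
    refine ⟨fun e => ?_, fun e => ?_⟩
    · rw [e, mul_inv_cancel_right, ← mul_assoc, h1, mul_assoc, mul_assoc, mul_right_inj] at h2
      exact h2
    · refine (comm_or_of_mem htt (f10 r hr q (hUQ hq) (hUt hq))).resolve_right fun e' => hz1 ?_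
      rw [e', show t * (q * r) * r⁻¹ = t * q by group] at h2
      have h4 : s * n * (t * q) = z * (t * q * (s * n)) := by
        calc s * n * (t * q) = s * t * (n * q) := by rw [mul_assoc s, ← mul_assoc n, h3]; group
          _ = z * t * (s * q) * n := by rw [hst, ← e]; group
          _ = _ := by rw [← h1]; group
      rw [h4] at h2
      exact (mul_eq_right.mp h2.symm)
  have fII : ∀ r ∈ R, ∀ τ ∈ R, r * τ = τ * r → ⁅s⁻¹, r⁆ * ⁅s⁻¹, τ⁆ = ⁅s⁻¹, τ⁆ * ⁅s⁻¹, r⁆ :=
    fun r hr τ hτ e => by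
    have h1 : ⁅s⁻¹, r⁆ * (r * ⁅s⁻¹, τ⁆ * r⁻¹) = ⁅s⁻¹, τ⁆ * (τ * ⁅s⁻¹, r⁆ * τ⁻¹) := by
      simp only [commutatorElement_def]
      calc _ = s⁻¹ * (r * τ) * s * (r * τ)⁻¹ := by group
        _ = _ := by rw [e]; group
    have m1 := hU1 (hnU r hr)
    have m2 := hU1 (hnU τ hτ)
    have h2 := f10 r hr _ m2.1 m2.2
    have h3 := f10 τ hτ _ m1.1 m1.2
    have h4 := h.comm _ (sup_le hUE (zpowers_le.mpr htE) (hnU r hr)) _ m2.1
    have h5 := zpowers_le_centralizer (zpowers_le.mpr m1.2) h2 _ (mem_zpowers _)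
    have h6 := zpowers_le_centralizer (zpowers_le.mpr m2.2) h3 _ (mem_zpowers _)
    generalize ⁅s⁻¹, r⁆ = a at *
    generalize ⁅s⁻¹, τ⁆ = b at *
    have h7 : ⁅a, b⁆ = ⁅r, b⁆⁻¹ * ⁅τ, a⁆ := by
      have e1 : ⁅r, b⁆ * (a * b) = ⁅τ, a⁆ * (b * a) := by
        rw [← mul_assoc, ← h5, ← mul_assoc, ← h6]
        simp only [commutatorElement_def]
        calc _ = a * (r * b * r⁻¹) := by group
          _ = _ := by rw [h1]; group
      rw [eq_inv_mul_iff_mul_eq, commutatorElement_def a b, ← mul_assoc, ← mul_assoc, e1]; group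
    rcases (mem_zpowers_invol hzz).mp h4 with e1 | e1
    · exact commutatorElement_eq_one_iff_mul_comm.mp e1
    · rcases (mem_zpowers_invol htt).mp (show z ∈ zpowers t from
        e1 ▸ h7 ▸ mul_mem (inv_mem h2) h3) with e2 | e2
      · exact (hz1 e2).elim
      · exact (htz (e2 ▸ mem_zpowers z)).elim
  have hX1 : ⁅E', zpowers z⁆ ≤ centralizer (R : Set G) := by
    rw [← commutator_eq_bot_iff_le_centralizer]
    refine commutator_commutator_eq_bot_of_rotate ?_ (commutator_eq_bot_iff_le_centralizer.mpr ?_)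
    · rw [commutator_eq_bot_iff_le_centralizer.mpr (zpowers_le_centralizer inf_le_right),
        commutator_bot_left]
    · exact (commutator_le.mpr fun r hr e he => hcE' r (mem_inf.mp hr).1 e he).trans
        (zpowers_le_centralizer (zpowers_le.mpr hzt'))
  have hzi : z⁻¹ = z := inv_eq_of_mul_eq_one_right hzz
  have hX0 : ⁅E', zpowers z⁆ ≤ E' := commutator_le_left_of_le_normalizer hzE'
  have hX2 : ⁅E', zpowers z⁆ ≤ R := commutator_le.mpr fun e he k hk => by
    have hm := hX0 (commutator_mem_commutator he hk)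
    refine ⟨hm, ?_⟩
    rcases (mem_zpowers_invol hzz).mp hk with rfl | rfl
    · simp
    refine f4 _ hm ?_
    have e1 : ⁅k, ⁅e, k⁆⁆ = (⁅e, k⁆ * ⁅e, k⁆)⁻¹ := by
      simp only [commutatorElement_def]
      calc _ = k * e * k * e⁻¹ * (k * k)⁻¹ * k * e * k⁻¹ * e⁻¹ := by group
        _ = k * e * k⁻¹ * e⁻¹ * k * e * k⁻¹ * e⁻¹ := by rw [hzz, hzi]; group
        _ = _ := by group
    rw [e1]
    exact inv_mem (hsE' _ hm)
  have htR : zpowers t ≤ centralizer (R : Set G) := zpowers_le_centralizer (inf_le_left.trans hE't)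
  set X := ⁅E', zpowers z⁆ ⊔ zpowers t with hX
  have hXR : X ≤ R := sup_le hX2 (zpowers_le.mpr ⟨htE', mem_centralizer_singleton_iff.mpr hzt.symm⟩)
  have hXc : X ≤ centralizer (R : Set G) := sup_le hX1 htR
  have c1 : R.relIndex E' ≤ (zpowers t).relIndex X :=
    relIndex_le_of_fun (fun e => ⁅e, z⁆)
      (fun e he => mem_sup_left (commutator_mem_commutator he (mem_zpowers z))) fun x hx y hy hm => by
      refine mem_inf.mpr ⟨mul_mem (inv_mem hx) hy, f4 _ (mul_mem (inv_mem hx) hy) ?_⟩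
      have h1 := inv_conj_mem_of_le_normalizer (le_normalizer_zpowers hE't) hx
        (inv_conj_mem_of_le_normalizer (le_normalizer_zpowers (zpowers_le.mpr hzt'))
          (mem_zpowers z) hm)
      rw [← hzi]
      convert h1 using 1
      simp only [commutatorElement_def]
      group
  have c2 := card_mul_card_le_of_pairing (X := X) (W := zpowers t)
    (Y₀ := U ⊓ centralizer (X : Set G)) (hQ.to_le hUQ) inf_le_left
    (le_centralizer_iff.mp inf_le_right) (by rw [Nat.card_zpowers, ht])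
    fun x hx y hy => f10 x (hXR hx) y (hUQ hy) (hUt hy)
  have c2' : Nat.card (X ⊓ centralizer (U : Set G) : Subgroup G) ≤ 2 :=
    (card_le_of_le ((inf_le_inf_right _ hXR).trans f11)).trans (by rw [Nat.card_zpowers, ht])
  have hdec : ∀ r, ∃ u, r ∈ R → u ∈ U ∧ ∀ q ∈ U ⊔ zpowers t,
      (q * u = u * q ↔ q * ⁅s⁻¹, r⁆ = ⁅s⁻¹, r⁆ * q) := fun r => by
    by_cases hr : r ∈ R
    · obtain ⟨u, hu, w, hw, e⟩ := (mem_sup_of_le_normalizer_right (le_normalizer_zpowers hUt)).mp
        (hnU r hr)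
      refine ⟨u, fun _ => ⟨hu, fun q hq => ?_⟩⟩
      have := zpowers_le_centralizer (hU1.trans inf_le_right) hw q hq
      rw [← e, mul_assoc, ← this, ← mul_assoc, ← mul_assoc, mul_left_inj]
    · exact ⟨1, fun h => (hr h).elim⟩
  choose u hu using hdec
  have c3 : (zpowers t).relIndex R ≤ (zpowers z).relIndex (U ⊓ centralizer (X : Set G)) :=
    relIndex_le_of_fun u (fun r hr => ⟨(hu r hr).1, fun τ hτ => (fI τ (hXR hτ) _ (hu r hr).1).mpr
      (((hu r hr).2 _ (hnU τ (hXR hτ))).mpr (fII τ (hXR hτ) r hr (hXc hτ r hr).symm)).symm⟩)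
      fun r hr r' hr' hm => by
      refine f11 (mem_inf.mpr ⟨mul_mem (inv_mem hr) hr', fun q hq => ?_⟩)
      have h1 : r * q = q * r ↔ r' * q = q * r' := by
        rw [fI r hr q hq, fI r' hr' q hq, ← (hu r hr).2 q (mem_sup_left hq),
          ← (hu r' hr').2 q (mem_sup_left hq)]
        have h3 := zpowers_le_centralizer (hUQ.trans hQz) hm q hq
        have h4 : u r' = u r * ((u r)⁻¹ * u r') := by group
        generalize (u r)⁻¹ * u r' = w at h3 h4
        rw [h4, mul_assoc (u r), ← h3, ← mul_assoc, ← mul_assoc, mul_left_inj]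
      have h2 : r * q * r⁻¹ = r' * q * r'⁻¹ := by
        rcases comm_or_of_mem htt (f10 r hr q (hUQ hq) (hUt hq)) with e | e
        · rw [e, h1.mp e]; group
        rcases comm_or_of_mem htt (f10 r' hr' q (hUQ hq) (hUt hq)) with e' | e'
        · rw [e', h1.mpr e']; group
        · rw [e, e']; group
      calc q * (r⁻¹ * r') = r⁻¹ * (r * q * r⁻¹) * r' := by group
        _ = _ := by rw [h2]; group
  have d1 := H5.card_mul_relIndex (show R ≤ E' from inf_le_left)
  have d2 := H5.card_mul_relIndex (show zpowers t ≤ R from le_sup_right.trans hXR)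
  have d3 := H5.card_mul_relIndex (show zpowers t ≤ X from le_sup_right)
  have d4 := H5.card_mul_relIndex (show zpowers z ≤ U ⊓ centralizer (X : Set G) from
    le_inf (zpowers_le.mpr hzU) (zpowers_le_centralizer (hXR.trans inf_le_right)))
  have d5 := H5.card_lt_of_lt (lt_of_le_of_ne hUE fun e => htU (e ▸ htE))
  rw [Nat.card_zpowers, ht] at d2 d3
  rw [Nat.card_zpowers, hz] at d4
  rw [← d1, ← d2]
  rw [← d3, ← d4] at c2
  have := Nat.mul_le_mul c3 c1
  nlinarith

variable {p : ℕ} [hp : Fact p.Prime] {N : ℕ}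

theorem KM.inf_eq_bot (h : KM G p N) {A : Subgroup G} {z : G} (hA : IsPGroup p A)
    (hz : orderOf z = 2) (hAz : A ≤ centralizer {z}) :
    A ⊓ centralizer (pCoreIn 2 (centralizer ({z} : Set G)) : Set G) = ⊥ :=
  le_bot_iff.mp ((le_inf ((inf_le_inf_right _ hAz).trans (h.char2 z hz)) inf_le_left).trans
    (inf_eq_bot_of_pGroup_coprime (isPGroup_pCoreIn 2 _) (coprime_card_of_pGroup h.ne hA)).le)

theorem KM.step (h : KM G p N) (hN : p ^ 3 ≤ N) {A : Subgroup G} {z : G}
    (hA : IsElementaryAbelian p A) (hAN : Nat.card A = N) (hz : orderOf z = 2)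
    (hAz : A ≤ centralizer {z}) : ∃ (A' : Subgroup G) (t : G), IsElementaryAbelian p A' ∧
      Nat.card A' = N ∧ orderOf t = 2 ∧ A' ≤ centralizer {t} ∧
      Nat.card (⁅pCoreIn 2 (centralizer ({t} : Set G)), A'⁆ : Subgroup G) <
        Nat.card (⁅pCoreIn 2 (centralizer ({z} : Set G)), A⁆ : Subgroup G) := by
  have hp1 := hp.out.one_lt
  have hN2 : p ^ 2 ≤ N := (Nat.pow_le_pow_right hp.out.pos (by norm_num)).trans hN
  obtain ⟨d, hd⟩ := H7.card_eq_pow_of_le (isPGroup_of_elem hA)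
  obtain ⟨k, rfl⟩ : ∃ k, d = k + 1 + 2 := by
    rw [← hAN, hd, Nat.pow_le_pow_iff_right hp1] at hN
    exact ⟨d - 3, by omega⟩
  have key : ∀ (A : Subgroup G) (z : G), IsElementaryAbelian p A → Nat.card A = N → orderOf z = 2 →
      A ≤ centralizer {z} → ∃ B ≤ A, p ^ (k + 1) ≤ Nat.card B ∧
        ∃ T ≤ ⁅pCoreIn 2 (centralizer ({z} : Set G)), A⁆ ⊓ centralizer (B : Set G),
          IsElementaryAbelian 2 T ∧ Nat.card T = 2 ^ 3 ∧ z ∈ T := fun A' z hA' hAN' hz hAz =>
    (h.es hA' hAN' hN2 hz hAz).exists_eight h.ne hA' (isPGroup_pCoreIn 2 _)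
      (hAz.trans (le_normalizer_pCoreIn 2 _)) hz (pCoreIn_le 2 _) hAz
      (h.inf_eq_bot (isPGroup_of_elem hA') hz hAz) (by rw [hAN', ← hAN, hd])
  obtain ⟨B, hBA, hBc, T, hT, hT2, hTc, hzT⟩ := key A z hA hAN hz hAz
  obtain ⟨t, htT, htz, A', hA', hBA', hA'P, hA't, hA'c, hzA'⟩ := h.three (elem_of_le hA hBA)
    (ne_bot_of_card_ge hBc) hT2 (hT.trans inf_le_right) hTc hzT (ne_one_of_orderOf hz)
  have ht : orderOf t = 2 := orderOf_eq_of_elem hT2 htT fun e => htz (e ▸ one_mem _)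
  have hA'N : Nat.card A' = N := le_antisymm (h.max A' t hA' ht hA't) (by
    rw [hA'c, ← hAN, hd, pow_succ, pow_succ]
    gcongr)
  obtain ⟨B', -, -, T', hT', -, -, htT'⟩ := key A' t hA' hA'N ht hA't
  have hfix : pCoreIn 2 (centralizer ({t} : Set G)) ⊓ centralizer (B : Set G) ≤
      centralizer (A' : Set G) := by
    refine le_trans (commutator_eq_bot_iff_le_centralizer.mp (commutator_eq_bot_of_pGroup_coprime
      ((isPGroup_pCoreIn 2 _).to_le inf_le_left) (coprime_card_of_pGroup h.ne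
        ((isPGroup_pCoreIn p _).to_le inf_le_left)) (H4.le_normalizer_inf
          (inf_le_right.trans (le_normalizer_pCoreIn p _))
          (inf_le_left.trans ((pCoreIn_le 2 _).trans Subgroup.le_normalizer)))
        (H4.le_normalizer_inf (inf_le_right.trans (le_normalizer_pCoreIn 2 _))
          (inf_le_left.trans ((pCoreIn_le p _).trans Subgroup.le_normalizer)))))
      (centralizer_anti (le_inf hA'P hA't))
  refine ⟨A', t, hA', hA'N, ht, hA't, (h.es hA hAN hN2 hz hAz).card_lt (h.es hA' hA'N hN2 ht hA't)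
    (isPGroup_pCoreIn 2 _) (isPGroup_pCoreIn 2 _) (not_two_dvd_of_pGroup h.ne (isPGroup_of_elem hA))
    hz ht hAz hA't (pCoreIn_le 2 _)
    (pCoreIn_le 2 _) (le_normalizer_pCoreIn 2 _) (le_normalizer_pCoreIn 2 _) (h.char2 z hz) hBA hBA'
    (le_normalizer_of_comm hA'.1 hBA') (hT htT).1 htz (hT hzT).1 (hT' htT').1 hfix
    fun hm => hzA' (hfix ⟨hm, (hT hzT).2⟩)⟩

theorem KM.false (h : KM G p N) (hN : p ^ 3 ≤ N) {A : Subgroup G} {z : G}
    (hA : IsElementaryAbelian p A) (hAN : Nat.card A = N) (hz : orderOf z = 2)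
    (hAz : A ≤ centralizer {z}) : False := by
  generalize hn : Nat.card (⁅pCoreIn 2 (centralizer ({z} : Set G)), A⁆ : Subgroup G) = n
  induction n using Nat.strong_induction_on generalizing A z with
  | _ n ih =>
  obtain ⟨A', t, h1, h2, h3, h4, h5⟩ := h.step hN hA hAN hz hAz
  exact ih _ (hn ▸ h5) h1 h2 h3 h4 rfl

end H4
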